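import Mathlib.RingTheory.PicardGroup
import Mathlib.RingTheory.Flat.FaithfullyFlat.Basic
import Mathlib.LinearAlgebra.Contraction
import Mathlib.Tactic

/-! # Algebra isomorphisms of endomorphism algebras come from invertible modules -/

set_option autoImplicit false

universe u v

open TensorProduct

namespace H23Morita

variable {A : Type u} [CommRing A]

theorem exists_trace_eq_one (F : Type v) [AddCommGroup F] [Module A F] [Module.Finite A F]
    [Module.Projective A F] [Module.FaithfullyFlat A F] :
    ∃ (n : ℕ) (θ : Fin n → Module.Dual A F) (v : Fin n → F), ∑ i, θ i (v i) = 1 := by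
  obtain ⟨n, p, s, hp, hps⟩ : ∃ (n : ℕ) (p : (Fin n → A) →ₗ[A] F) (s : F →ₗ[A] (Fin n → A)),
      Function.Surjective p ∧ p ∘ₗ s = LinearMap.id := by
    obtain ⟨n, p, hp⟩ := Module.Finite.exists_fin' A F
    obtain ⟨s, hs⟩ := Module.projective_lifting_property p LinearMap.id hp
    exact ⟨n, p, s, hp, hs⟩
  let T : Ideal A := LinearMap.range (contractLeft A F)
  have hT : T = ⊤ := by
    by_contra h
    obtain ⟨m, hm, hle⟩ := Ideal.exists_le_maximal T h
    refine Module.FaithfullyFlat.submodule_ne_top (M := F) hm (top_le_iff.mp fun x _ => ?_)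
    have hx : x = p (s x) := (LinearMap.congr_fun hps x).symm
    rw [hx, ← (Pi.basisFun A (Fin n)).sum_repr (s x), map_sum]
    refine Submodule.sum_mem _ fun i _ => ?_
    rw [map_smul]
    refine Submodule.smul_mem_smul (hle ?_) Submodule.mem_top
    exact ⟨((LinearMap.proj i).comp s) ⊗ₜ[A] x, by simp⟩
  obtain ⟨t, ht⟩ : ∃ t, contractLeft A F t = 1 := by
    have h1 : (1 : A) ∈ T := by rw [hT]; exact Submodule.mem_top
    exact h1
  obtain ⟨S, rfl⟩ := TensorProduct.exists_finset t
  refine ⟨S.card, fun i => (S.equivFin.symm i).1.1, fun i => (S.equivFin.symm i).1.2, ?_⟩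
  rw [Equiv.sum_comp S.equivFin.symm (fun z : S => z.1.1 z.1.2), ← ht, map_sum]
  rw [← Finset.sum_coe_sort S]
  exact Finset.sum_congr rfl fun z _ => by simp

/-- Linear maps intertwining an algebra homomorphism of endomorphism algebras. -/
def hom {F G : Type u} [AddCommGroup F] [Module A F] [AddCommGroup G] [Module A G]
    (φ : Module.End A F →ₐ[A] Module.End A G) : Submodule A (F →ₗ[A] G) where
  carrier := {l | ∀ f x, φ f (l x) = l (f x)}
  add_mem' {a b} ha hb := fun f x => by simp [map_add, ha f x, hb f x]
  zero_mem' := fun f x => by simp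
  smul_mem' c a ha := fun f x => by simp [map_smul, ha f x]

/-- The rank one endomorphism. -/
def rk {F : Type v} [AddCommGroup F] [Module A F] (θ : Module.Dual A F) (x : F) :
    Module.End A F := θ.smulRight x

section Hom

variable {F G : Type u} [AddCommGroup F] [Module A F] [AddCommGroup G] [Module A G]
  (φ : Module.End A F →ₐ[A] Module.End A G)

noncomputable def ev : F ⊗[A] hom φ →ₗ[A] G :=
  TensorProduct.lift (LinearMap.flip (hom φ).subtype)

@[simp] theorem ev_tmul (x : F) (l : hom φ) : ev φ (x ⊗ₜ l) = (l : F →ₗ[A] G) x := by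
  simp [ev]

theorem ev_map (f : Module.End A F) (t : F ⊗[A] hom φ) :
    ev φ (TensorProduct.map f LinearMap.id t) = φ f (ev φ t) := by
  induction t using TensorProduct.induction_on with
  | zero => simp
  | tmul x l => simp [l.2 f x]
  | add a b ha hb => simp [map_add, ha, hb]

/-- The intertwiner attached to a functional and a vector. -/
noncomputable def mkHom (θ : Module.Dual A F) (g : G) : hom φ :=
  ⟨{ toFun := fun x => φ (rk θ x) g
     map_add' := fun x y => by
       have : rk θ (x + y) = rk θ x + rk θ y := by ext z; simp [rk, smul_add]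
       simp [this]
     map_smul' := fun c x => by
       have : rk θ (c • x) = c • rk θ x := LinearMap.ext fun z => smul_comm (θ z) c x
       simp [this] },
    fun f x => by
      have : f * rk θ x = rk θ (f x) := by ext z; simp [rk]
      change φ f (φ (rk θ x) g) = φ (rk θ (f x)) g
      rw [← this, map_mul]; rfl⟩

theorem mkHom_apply (θ : Module.Dual A F) (g : G) (x : F) :
    (mkHom φ θ g : F →ₗ[A] G) x = φ (rk θ x) g := rfl

theorem ev_bijective [Module.Finite A F] [Module.Projective A F] :
    Function.Bijective (ev φ) := by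
  obtain ⟨n, p, hp⟩ := Module.Finite.exists_fin' A F
  obtain ⟨s, hs⟩ := Module.projective_lifting_property p LinearMap.id hp
  let θ : Fin n → Module.Dual A F := fun j => (LinearMap.proj j).comp s
  let x : Fin n → F := fun j => p (Pi.basisFun A (Fin n) j)
  have hb : ∀ y, ∑ j, θ j y • x j = y := fun y => by
    have hy : p (s y) = y := LinearMap.congr_fun hs y
    conv_rhs => rw [← hy, ← (Pi.basisFun A (Fin n)).sum_repr (s y), map_sum]
    simp [θ, x]
  refine Function.bijective_iff_has_inverse.mpr
    ⟨fun g => ∑ j, x j ⊗ₜ mkHom φ (θ j) g, ?_, ?_⟩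
  · intro t
    induction t using TensorProduct.induction_on with
    | zero =>
      refine Finset.sum_eq_zero fun j _ => ?_
      have : mkHom φ (θ j) (ev φ 0) = 0 := by
        apply Subtype.ext; ext y; simp [mkHom_apply]
      simp only [this, tmul_zero]
    | tmul y l =>
      have : ∀ j, mkHom φ (θ j) (ev φ (y ⊗ₜ l)) = θ j y • l := fun j => by
        apply Subtype.ext; ext z
        rw [mkHom_apply, ev_tmul, l.2]
        simp [rk]
      simp only [this]
      simp_rw [TensorProduct.tmul_smul, TensorProduct.smul_tmul', ← TensorProduct.sum_tmul, hb]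
    | add a b ha hb' =>
      have : ∀ j, mkHom φ (θ j) (ev φ (a + b)) =
          mkHom φ (θ j) (ev φ a) + mkHom φ (θ j) (ev φ b) := fun j => by
        apply Subtype.ext; ext z; simp [mkHom_apply]
      simp only [this, tmul_add, Finset.sum_add_distrib]
      exact congrArg₂ (· + ·) ha hb'
  · intro g
    have h1 : (∑ j, rk (θ j) (x j) : Module.End A F) = 1 := by
      ext y; simpa [rk] using hb y
    simp only [map_sum, ev_tmul, mkHom_apply]
    rw [← LinearMap.sum_apply, ← map_sum, h1, map_one]; rfl

end Hom

theorem nonempty_equiv_self {F M : Type u} [AddCommGroup F] [Module A F] [Module.Finite A F]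
    [Module.Projective A F] [Module.FaithfullyFlat A F] [AddCommGroup M] [Module A M]
    (η : F ⊗[A] M ≃ₗ[A] F)
    (hη : ∀ (f : Module.End A F) t, η (TensorProduct.map f LinearMap.id t) = f (η t)) :
    Nonempty (M ≃ₗ[A] A) := by
  obtain ⟨n, θ, v, hv⟩ := exists_trace_eq_one (A := A) F
  let α : M →ₗ[A] A := ∑ i, (θ i).comp (η.toLinearMap.comp (TensorProduct.mk A F M (v i)))
  have key : ∀ t : F ⊗[A] M, η t = TensorProduct.rid A F (α.lTensor F t) := by
    intro t
    induction t using TensorProduct.induction_on with
    | zero => simp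
    | add a b ha hb => simp [map_add, ha, hb]
    | tmul x m =>
      calc η (x ⊗ₜ m) = ∑ i, η (TensorProduct.map (rk (θ i) x) LinearMap.id (v i ⊗ₜ m)) := by
            rw [← map_sum]; congr 1
            simp only [TensorProduct.map_tmul, rk, LinearMap.smulRight_apply, LinearMap.id_coe, id_eq]
            rw [← TensorProduct.sum_tmul, ← Finset.sum_smul, hv, one_smul]
        _ = ∑ i, θ i (η (v i ⊗ₜ m)) • x := by simp only [hη]; rfl
        _ = TensorProduct.rid A F (α.lTensor F (x ⊗ₜ m)) := by simp [α, Finset.sum_smul]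
  have hb : Function.Bijective (α.lTensor F) := by
    have he : (fun t => (TensorProduct.rid A F).symm (η t)) = α.lTensor F := by
      funext t; simp [key]
    rw [← he]
    exact (TensorProduct.rid A F).symm.bijective.comp η.bijective
  exact ⟨LinearEquiv.ofBijective α
    ((Module.FaithfullyFlat.lTensor_bijective_iff_bijective A F α).mp hb)⟩

theorem exists_invertible {F G : Type u} [AddCommGroup F] [Module A F] [Module.Finite A F]
    [Module.Projective A F] [Module.FaithfullyFlat A F] [AddCommGroup G] [Module A G]
    [Module.Finite A G] [Module.Projective A G]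
    (φ : Module.End A F ≃ₐ[A] Module.End A G) :
    Module.Invertible A (hom φ.toAlgHom) ∧
      ∃ ξ : F ⊗[A] hom φ.toAlgHom ≃ₗ[A] G,
        ∀ f : Module.End A F, φ f = ξ.conj (TensorProduct.map f LinearMap.id) := by
  let ξ := LinearEquiv.ofBijective (ev φ.toAlgHom) (ev_bijective φ.toAlgHom)
  let ξ' := LinearEquiv.ofBijective (ev φ.symm.toAlgHom) (ev_bijective φ.symm.toAlgHom)
  let η : F ⊗[A] (hom φ.toAlgHom ⊗[A] hom φ.symm.toAlgHom) ≃ₗ[A] F :=
    (TensorProduct.assoc A F _ _).symm ≪≫ₗ LinearEquiv.rTensor _ ξ ≪≫ₗ ξ'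
  have hη : ∀ (f : Module.End A F) t, η (TensorProduct.map f LinearMap.id t) = f (η t) := by
    intro f t
    induction t using TensorProduct.induction_on with
    | zero => simp
    | add a b ha hb => simp [map_add, ha, hb]
    | tmul x y =>
      induction y using TensorProduct.induction_on with
      | zero => simp
      | add a b ha hb => simp only [tmul_add, map_add, ha, hb]
      | tmul l l' =>
        have h1 := l.2 f x
        have h2 := l'.2 (φ f) ((l : F →ₗ[A] G) x)
        simp [η, ξ, ξ'] at h1 h2 ⊢
        rw [← h1, ← h2]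
  obtain ⟨e⟩ := nonempty_equiv_self (M := hom φ.toAlgHom ⊗[A] hom φ.symm.toAlgHom) η hη
  refine ⟨Module.Invertible.left e, ξ, fun f => LinearMap.ext fun g => ?_⟩
  obtain ⟨t, rfl⟩ := ξ.surjective g
  rw [LinearEquiv.conj_apply_apply, LinearEquiv.symm_apply_apply]
  exact (ev_map φ.toAlgHom f t).symm

end H23Morita
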